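import Groth.Agent.AffQuotLib.Quot
import Groth.Agent.AlgStLib.Classes
import Groth.Agent.IsoNatLib.Transfer
import Groth.Agent.AlgStLib.PointsTop
import Groth.Prelude.Def_W4stkstmodspWNA

/-!
# Well-nigh affine algebraic spaces are affine
-/

set_option autoImplicit false
set_option linter.style.haveILetI false
set_option backward.isDefEq.respectTransparency false
set_option backward.isDefEq.respectTransparency.types false

universe u

open CategoryTheory CategoryTheory.Limits AlgebraicGeometry AlgSp FibCat FibLib AlgStLib Opposite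

noncomputable section

namespace AffQuotLib

variable {S : Scheme.{u}} {𝒳 : AlgSt.Cat S}

/-- An algebraic space with a finite flat surjective map from an affine scheme is affine. -/
theorem exists_affine_of_cover {F : Sp S} {U : Over S} [IsAffine U.left] (a : (yon S).obj U ⟶ F)
    (hfin : RepWith @IsFinite a) (hflat : RepWith @Flat a) (hlfp : RepWith @LocallyOfFinitePresentation a)
    (hsurj : RepWith @Surjective a) : ∃ M : Over S, IsAffine M.left ∧ Nonempty ((yon S).obj M ≅ F) := by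
  haveI := AlgSpLib.isLocallySurjective_of_repWith hflat hlfp hsurj
  obtain ⟨R, t, s, sq⟩ : ∃ (R : Over S) (t s : R ⟶ U), IsPullback ((yon S).map t) ((yon S).map s) a a := by
    obtain ⟨t, ht⟩ := (yon S).map_surjective (hfin.rep.fst a)
    exact ⟨_, t, hfin.rep.snd a, ht ▸ hfin.rep.isPullback a⟩
  haveI : IsFinite s.left := hfin.property _ _ _ sq
  haveI : Flat s.left := hflat.property _ _ _ sq
  haveI : LocallyOfFinitePresentation s.left := hlfp.property _ _ _ sq
  haveI : IsFinite t.left := hfin.property _ _ _ sq.flip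
  haveI : Flat t.left := hflat.property _ _ _ sq.flip
  haveI : LocallyOfFinitePresentation t.left := hlfp.property _ _ _ sq.flip
  exact exists_affine_of_finite_relation sq

theorem exists_affine_equivOver [IsFibGrpd 𝒳.p] (hw : AlgSt.IsWellNighAffine 𝒳) (hsp : AlgSt.RepByAlgSp 𝒳) :
    ∃ (U : Over S) (e : AlgSt.ofSch U ⥤ᵇ 𝒳), IsAffine U.left ∧ IsEquivOver e := by
  obtain ⟨U, x, hU, hx⟩ := hw
  obtain ⟨F, e, he⟩ := hsp
  obtain ⟨g, -, -, ⟨β⟩⟩ := exists_inverse he
  let f := BasedFunctor.comp (AlgSt.toOverCat U) x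
  obtain ⟨α⟩ := nonempty_iso_mapOf (P := ((yon S).obj U).obj) (Q := F.obj.obj) (BasedFunctor.comp f g)
  let a : (yon S).obj U ⟶ F.obj :=
    ObjectProperty.homMk (mapOf (P := ((yon S).obj U).obj) (Q := F.obj.obj) (BasedFunctor.comp f g))
  haveI := full_id (AlgSt.ofSch U)
  haveI := faithful_id (AlgSt.ofSch U)
  have ha := (repByAlgSpWith_square_iff (f := f) (f' := AlgSt.ofSpMap a) (a := BasedFunctor.id (AlgSt.ofSch U))
    (isEquivOver_id _) he ((whiskerRightIso' α e).symm ≪≫ whiskerLeftIso' f β) _).mp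
    (repByAlgSpWith_toOverCat_comp hx)
  have hfin' : IsFiniteMor a := by
    intro Z hZ z
    obtain ⟨H, π, -, hπ, hP⟩ := (repByAlgSpWith_iff _ _).mp ha Z (Stk.ofPshMap z.hom)
    obtain ⟨b', sq⟩ := isPullback_of_along hπ
    obtain ⟨W, i, fst, sqW, hW, hi⟩ := hP.1.2 hZ (𝟙 _)
    have sq' : IsPullback (⟨b'⟩ : H ⟶ (yon S).obj U) π a z := IsPullback.of_map (sheafToPresheaf _ _)
      (ObjectProperty.hom_ext _ sq.w) sq
    refine ⟨W, i, fst ≫ ⟨b'⟩, ?_, hW, hi⟩
    have := sqW.paste_horiz sq'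
    rwa [Category.id_comp] at this
  have hfin : RepWith @IsFinite a := AlgSpLib.isFiniteMor_iff.1 hfin'
  have key : ∀ (Q : MorphismProperty Scheme.{u}) [Q.IsStableUnderBaseChange],
      (∀ ⦃A B : Over S⦄ (c : A ⟶ B), AlgSt.RepByAlgSpWith (LocP Q) (AlgSt.ofSpMap a) →
        LocP Q ((yon S).map c) → Q c.left) →
      AlgSt.RepByAlgSpWith (LocP Q) (AlgSt.ofSpMap a) →
      (∀ ⦃H H' G : Sp S⦄ (i : H ≅ H') (b : H' ⟶ G), IsAlgSpace H' → IsAlgSpace G → LocP Q b → LocP Q (i.hom ≫ b)) →
      RepWith Q a := by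
    intro Q _ h1 h2 h3
    refine (repWith_iff Q a).2 ⟨hfin.rep, fun T V z fst snd sq => h1 snd h2 (prop_of_along h3 h2 (u := Stk.ofPshMap z.hom) ?_)⟩
    exact along_ofPshMap (isPullback_sheaf sq)
  have hflat : RepWith @Flat a := key @Flat (fun _ _ c _ h => (AlgSpLib.locP_yon_map_iff c).1 h)
    (repByAlgSpWith_mono (fun _ _ _ _ _ h => h.1.1.2) ha) good_flat.bc.precomp_iso
  have hlfp : RepWith @LocallyOfFinitePresentation a := key @LocallyOfFinitePresentation
    (fun _ _ c _ h => (AlgSpLib.locP_yon_map_iff c).1 h)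
    (repByAlgSpWith_mono (fun _ _ _ _ _ h => h.2) ha) good_lfp.bc.precomp_iso
  have hs : AlgSt.RepByAlgSpWith IsSurjectiveMor (AlgSt.ofSpMap a) :=
    repByAlgSpWith_mono (fun _ _ _ _ _ h => h.1.1.1) ha
  have hsurj : RepWith @Surjective a := (repWith_iff @Surjective a).2 ⟨hfin.rep, fun T V z fst snd sq =>
    IsoNatLib.surjective_left_of_isSurjectiveMor (prop_of_along good_surjective.bc.precomp_iso hs (u := Stk.ofPshMap z.hom)
      (along_ofPshMap (isPullback_sheaf sq)))⟩
  obtain ⟨M, hM, ⟨i⟩⟩ := exists_affine_of_cover a hfin hflat hlfp hsurj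
  exact ⟨M, BasedFunctor.comp (AlgSt.ofSpMap i.hom) e, hM, isEquivOver_comp (isEquivOver_ofPshMap ((sheafToPresheaf _ _).mapIso i)) he⟩

end AffQuotLib
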