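import Mathlib
import Groth.Agent.SpectralQuot.SchematicOpen
import Groth.Agent.AlgStLib.Rows3

/-!
# Quotients by finite locally free equivalence relations
-/

set_option autoImplicit false
set_option backward.isDefEq.respectTransparency false

universe u

open CategoryTheory CategoryTheory.Limits AlgebraicGeometry Opposite AlgSp AlgSpLib Topology TopologicalSpace

noncomputable section

namespace AffQuotLib

open SpectralQuot

variable {S : Scheme.{u}} {X : Sp S} {U R : Over S} {a : (yon S).obj U ⟶ X} {t s : R ⟶ U}

/-- The groupoid of a finite locally free equivalence relation with orbits in affine opens has a scheme quotient. -/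
theorem exists_affine_of_finite_relation [Flat t.left] [LocallyOfFinitePresentation t.left] [Flat s.left] [LocallyOfFinitePresentation s.left] [IsFinite t.left] [IsFinite s.left]
    (sq : IsPullback ((yon S).map t) ((yon S).map s) a a) [Sheaf.IsLocallySurjective a]
    [IsAffine U.left] :
    ∃ M : Over S, IsAffine M.left ∧ Nonempty ((yon S).obj M ≅ X) := by
  let Z : Over S := Over.mk (pullback.fst s.left t.left ≫ R.hom)
  let p₁ : Z ⟶ R := Over.homMk (pullback.fst s.left t.left) rfl
  let p₂ : Z ⟶ R := Over.homMk (pullback.snd s.left t.left) (by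
    show pullback.snd _ _ ≫ R.hom = pullback.fst _ _ ≫ R.hom
    conv_lhs => rw [← Over.w t]
    conv_rhs => rw [← Over.w s]
    rw [← Category.assoc, ← Category.assoc, pullback.condition])
  have hp : p₁ ≫ s = p₂ ≫ t := Over.OverMorphism.ext pullback.condition
  have hex : ∀ {T : Over S} (b c : T ⟶ U), (yon S).map b ≫ a = (yon S).map c ≫ a →
      ∃ l : T ⟶ R, l ≫ t = b ∧ l ≫ s = c := fun b c h => by
    obtain ⟨l, hl⟩ := (yon S).map_surjective (sq.lift _ _ h)
    exact ⟨l, (yon S).map_injective (by rw [Functor.map_comp, hl, sq.lift_fst]),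
      (yon S).map_injective (by rw [Functor.map_comp, hl, sq.lift_snd])⟩
  obtain ⟨c, hct, hcs⟩ := hex (p₁ ≫ t) (p₂ ≫ s) (by
    rw [Functor.map_comp_assoc, sq.w, ← Functor.map_comp_assoc, hp, Functor.map_comp_assoc, sq.w,
      ← Functor.map_comp_assoc])
  obtain ⟨e, het, hes⟩ := hex (𝟙 U) (𝟙 U) rfl
  obtain ⟨i, hit, his⟩ := hex s t sq.w.symm
  have hct' : c.left ≫ t.left = pullback.fst s.left t.left ≫ t.left := congrArg CommaMorphism.left hct
  have hcs' : c.left ≫ s.left = pullback.snd s.left t.left ≫ s.left := congrArg CommaMorphism.left hcs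
  have het' : e.left ≫ t.left = 𝟙 _ := congrArg CommaMorphism.left het
  have hes' : e.left ≫ s.left = 𝟙 _ := congrArg CommaMorphism.left hes
  have hit' : i.left ≫ t.left = s.left := congrArg CommaMorphism.left hit
  have his' : i.left ≫ s.left = t.left := congrArg CommaMorphism.left his
  let G : Grpd.GroupoidScheme S :=
    { U := U.left, R := R.left, pU := U.hom, pR := R.hom, s := s.left, t := t.left
      e := e.left, i := i.left, c := c.left
      s_over := Over.w s, t_over := Over.w t
      comp_s := fun α β h => by rw [Category.assoc, hcs', pullback.lift_snd_assoc]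
      comp_t := fun α β h => by rw [Category.assoc, hct', pullback.lift_fst_assoc]
      assoc := fun α β γ h₁ h₂ => by
        apply left_ext sq
        · simp only [Category.assoc, hct', pullback.lift_fst_assoc]
        · simp only [Category.assoc, hcs', pullback.lift_snd_assoc]
      e_s := hes', e_t := het'
      comp_e := fun α => by
        apply left_ext sq
        · simp only [Category.assoc, hct', pullback.lift_fst_assoc]
        · simp only [Category.assoc, hcs', pullback.lift_snd_assoc, hes', Category.comp_id]
      e_comp := fun α => by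
        apply left_ext sq
        · simp only [Category.assoc, hct', pullback.lift_fst_assoc, het', Category.comp_id]
        · simp only [Category.assoc, hcs', pullback.lift_snd_assoc]
      i_s := his', i_t := hit'
      comp_i := fun α => by
        apply left_ext sq
        · simp only [Category.assoc, hct', pullback.lift_fst_assoc, het', Category.comp_id]
        · simp only [Category.assoc, hcs', pullback.lift_snd_assoc, his', hes', Category.comp_id]
      i_comp := fun α => by
        apply left_ext sq
        · simp only [Category.assoc, hct', pullback.lift_fst_assoc, hit', het', Category.comp_id]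
        · simp only [Category.assoc, hcs', pullback.lift_snd_assoc, hes', Category.comp_id] }
  have hmj : Mono G.j := ⟨fun {T} g h e => left_ext sq
    (by have e1 := congrArg (· ≫ pullback.fst G.pU G.pU) e
        simp only [Grpd.GroupoidScheme.j, G, Category.assoc, pullback.lift_fst] at e1; exact e1)
    (by have e1 := congrArg (· ≫ pullback.snd G.pU G.pU) e
        simp only [Grpd.GroupoidScheme.j, G, Category.assoc, pullback.lift_snd] at e1; exact e1)⟩
  haveI : IsFinite G.s := ‹IsFinite s.left›
  haveI : Flat G.s := show Flat s.left from inferInstance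
  haveI : LocallyOfFinitePresentation G.s := show LocallyOfFinitePresentation s.left from inferInstance
  obtain ⟨Y, p, hq, -, -, -, hmono, haff⟩ := GrpdLib.exists_quotient G fun x =>
    ⟨⊤, isAffineOpen_top U.left, fun y _ => trivial⟩
  have hYaff : IsAffine Y := haff ‹IsAffine U.left›
  obtain ⟨hpb, _, _, _⟩ := hmono hmj
  obtain ⟨π, hπ, -⟩ := hq.existsUnique_desc G G.pU ((Over.w t).trans (Over.w s).symm)
  let M : Over S := Over.mk π
  let m : U ⟶ M := Over.homMk p hπ
  haveI : Flat m.left := ‹Flat p›
  haveI : LocallyOfFinitePresentation m.left := ‹LocallyOfFinitePresentation p›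
  haveI : Surjective m.left := ⟨hq.surj⟩
  haveI hls : Sheaf.IsLocallySurjective ((yon S).map m) := isLocallySurjective_yon_map m
  have sqM : IsPullback ((yon S).map t) ((yon S).map s) ((yon S).map m) ((yon S).map m) :=
    IsPullback.map (yon S) (IsPullback.of_map (Over.forget S) (h := m) (i := m)
      (show t ≫ m = s ≫ m from Over.OverMorphism.ext hpb.w) hpb)
  obtain ⟨y, hy⟩ := exists_desc ((yon S).map m) a fun T b b' h => by
    obtain ⟨r, h1, h2⟩ : ∃ r, r ≫ (yon S).map t = b ∧ r ≫ (yon S).map s = b' :=
      ⟨_, sqM.lift_fst b b' h, sqM.lift_snd b b' h⟩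
    rw [← h1, ← h2, Category.assoc, Category.assoc, sq.w]
  obtain ⟨y', hy'⟩ := exists_desc a ((yon S).map m) fun T b b' h => by
    obtain ⟨r, h1, h2⟩ : ∃ r, r ≫ (yon S).map t = b ∧ r ≫ (yon S).map s = b' :=
      ⟨_, sq.lift_fst b b' h, sq.lift_snd b b' h⟩
    rw [← h1, ← h2, Category.assoc, Category.assoc, sqM.w]
  haveI : Epi ((yon S).map m) := (Sheaf.isLocallySurjective_iff_epi _).mp hls
  haveI : Epi a := (Sheaf.isLocallySurjective_iff_epi _).mp inferInstance
  exact ⟨M, hYaff, ⟨{
    hom := y
    inv := y'
    hom_inv_id := by rw [← cancel_epi ((yon S).map m), reassoc_of% hy, hy', Category.comp_id]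
    inv_hom_id := by rw [← cancel_epi a, reassoc_of% hy', hy, Category.comp_id] }⟩⟩

end AffQuotLib
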